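import Groth.Agent.Lib.ActSep.Criterion
import Groth.Agent.Lib.ActSep.ImageSub
import Groth.Agent.Lib.GrpQ.Points
import Groth.Agent.H52.FBase.GeomRedSch
import Groth.Agent.H75.RedSub
import Groth.Agent.H75.RedKer
import Groth.Agent.S2535
import Groth.Agent.Lib.ActSep.SubgroupClosed
import Groth.Agent.Lib.GrpSch.BaseChange
import Groth.Agent.Lib.FreeRes.Transporter
import Groth.Prelude.Def_Red

/-!
The smallest closed subgroup through a geometrically reduced scheme mapping to a group over a field.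
-/

set_option autoImplicit false

universe u

open CategoryTheory Limits MonoidalCategory CartesianMonoidalCategory MonObj AlgebraicGeometry TensorProduct

namespace Groth.Agent.Lib.GenSub

section Alg

variable {k A : Type u} [Field k] [CommRing A] [Algebra k A]

/-- An algebra whose elements are detected by maps to geometrically reduced algebras is geometrically
reduced. -/
theorem isGeometricallyReduced_of_detect
    (h : ∀ a : A, a ≠ 0 → ∃ (B : Type u) (_ : CommRing B) (_ : Algebra k B) (χ : A →ₐ[k] B),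
      Algebra.IsGeometricallyReduced k B ∧ χ a ≠ 0) :
    Algebra.IsGeometricallyReduced k A := by
  classical
  rw [Algebra.isGeometricallyReduced_field_iff]
  let e := Module.Free.chooseBasis k (AlgebraicClosure k)
  constructor
  intro x hx
  apply (TensorProduct.equivFinsuppOfBasisLeft e (N := A)).injective
  rw [map_zero]
  ext i
  by_contra hne
  obtain ⟨B, _, _, χ, hB, hχ⟩ := h _ hne
  have := (Algebra.isGeometricallyReduced_field_iff k B).mp hB
  have h0 : Algebra.TensorProduct.map (AlgHom.id k (AlgebraicClosure k)) χ x = 0 := (hx.map _).eq_zero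
  have key : ∀ y : AlgebraicClosure k ⊗[k] A,
      TensorProduct.equivFinsuppOfBasisLeft e (Algebra.TensorProduct.map (AlgHom.id k (AlgebraicClosure k)) χ y) i =
        χ (TensorProduct.equivFinsuppOfBasisLeft e y i) := by
    intro y
    induction y using TensorProduct.induction_on with
    | zero => simp
    | tmul a b => simp
    | add a b ha hb => simp [ha, hb]
  apply hχ
  rw [← key x, h0, map_zero, Finsupp.zero_apply]

end Alg

variable {k : Type u} [Field k]

theorem isReduced_left (W : Over (Spec (CommRingCat.of k))) [GeometricallyReduced W.hom] :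
    IsReduced W.left :=
  GeometricallyReduced.geometrically_isReduced (f := W.hom) (𝟙 _) (𝟙 _) W.hom IsPullback.of_id_fst

/-- A scheme over a field in which a family of geometrically reduced schemes has dense range is
geometrically reduced, if it is reduced. -/
theorem geometricallyReduced_of_dense (Γ : Over (Spec (CommRingCat.of k))) [IsReduced Γ.left]
    (h : ∀ O : Γ.left.Opens, (O : Set Γ.left).Nonempty →
      ∃ (W : Over (Spec (CommRingCat.of k))) (c : W ⟶ Γ), GeometricallyReduced W.hom ∧ ∃ w, c.left w ∈ O) :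
    GeometricallyReduced Γ.hom := by
  let Ω := AlgebraicClosure k
  have hU : ∀ (A : CommRingCat.{u}) (u : Spec A ⟶ Γ.left) [IsOpenImmersion u], IsReduced (pullback (u ≫ Γ.hom)
      (Spec.map (CommRingCat.ofHom (algebraMap k Ω)))) := by
    intro A u _
    obtain ⟨φ, hφ⟩ := Spec.map_surjective (u ≫ Γ.hom)
    algebraize [φ.hom]
    have e : Spec.map (CommRingCat.ofHom φ.hom) = u ≫ Γ.hom := hφ
    have := isReduced_of_isOpenImmersion u
    have hA : Algebra.IsGeometricallyReduced k A := isGeometricallyReduced_of_detect (k := k) fun a ha => by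
      have hne : ((PrimeSpectrum.basicOpen a : TopologicalSpace.Opens (PrimeSpectrum A)) : Set (PrimeSpectrum A)).Nonempty := by
        rw [Set.nonempty_iff_ne_empty]
        intro h0
        have hn : IsNilpotent a := PrimeSpectrum.basicOpen_eq_bot_iff a |>.1 (SetLike.coe_injective h0)
        have := (affine_isReduced_iff _).1 (isReduced_of_isOpenImmersion u)
        exact ha hn.eq_zero
      obtain ⟨W, c, hW, w, hw⟩ := h (u ''ᵁ PrimeSpectrum.basicOpen a) (hne.image _)
      obtain ⟨y, hy, hyw⟩ := hw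
      obtain ⟨V, hV, hwV, hVU⟩ := exists_isAffineOpen_mem_and_subset (x := w)
        (U := c.left ⁻¹ᵁ (u ''ᵁ PrimeSpectrum.basicOpen a)) ⟨y, hy, hyw⟩
      let m := IsOpenImmersion.lift u (hV.fromSpec ≫ c.left) (by
        rintro _ ⟨z, rfl⟩
        obtain ⟨y, -, hy⟩ := hVU (hV.range_fromSpec.le ⟨z, rfl⟩)
        exact ⟨y, hy⟩)
      have hm : m ≫ u = hV.fromSpec ≫ c.left := IsOpenImmersion.lift_fac _ _ _
      obtain ⟨χ, hχ⟩ := Spec.map_surjective m
      obtain ⟨ψ, hψ⟩ := Spec.map_surjective (hV.fromSpec ≫ W.hom)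
      let _ : Algebra k Γ(W.left, V) := ψ.hom.toAlgebra
      have hc : φ ≫ χ = ψ := by
        apply Spec.map_injective
        rw [Spec.map_comp, hψ, hφ, hχ, ← Category.assoc, hm, Category.assoc, Over.w c]
      have : GeometricallyReduced (Spec.map (CommRingCat.ofHom (algebraMap k Γ(W.left, V)))) := by
        show GeometricallyReduced (Spec.map ψ)
        rw [hψ]
        exact GrpQ.geometricallyReduced_comp _ _
      refine ⟨Γ(W.left, V), inferInstance, inferInstance,
        { χ.hom with commutes' := fun r => ConcreteCategory.congr_hom hc r },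
        GrpQ.isGeometricallyReduced_of_spec, fun h0 => ?_⟩
      obtain ⟨z, hz⟩ := hV.range_fromSpec.ge hwV
      obtain ⟨y', hy', hy''⟩ := hVU (hV.range_fromSpec.le ⟨z, rfl⟩)
      have h1 : m z = y' := u.isOpenEmbedding.injective
        (((Scheme.Hom.comp_apply m u z).symm.trans (by rw [hm]; rfl)).trans hy''.symm)
      rw [← hχ] at h1
      rw [← h1] at hy'
      exact hy' (show χ.hom a ∈ z.asIdeal by rw [show χ.hom a = 0 from h0]; exact Ideal.zero_mem _)
    have : _root_.IsReduced (A ⊗[k] Ω) := H52.FBase.GeomRed.isReduced_tensor_field (A := A) Ω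
    have : IsReduced (pullback (Spec.map (CommRingCat.ofHom (algebraMap k A)))
        (Spec.map (CommRingCat.ofHom (algebraMap k Ω)))) := by
      have : IsReduced (Spec (CommRingCat.of (A ⊗[k] Ω))) := (affine_isReduced_iff _).mpr this
      exact isReduced_of_isOpenImmersion (pullbackSpecIso k A Ω).hom
    rw [← e]
    exact this
  have : IsReduced (FBase.bc Γ.hom Ω) := by
    let 𝒰 := Scheme.Pullback.openCoverOfLeft Γ.left.affineCover Γ.hom (Spec.map (CommRingCat.ofHom (algebraMap k Ω)))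
    have : ∀ i, IsReduced (𝒰.X i) := fun i =>
      have : IsOpenImmersion (Γ.left.affineCover.f i) := Scheme.Cover.map_prop Γ.left.affineCover i
      @hU _ (Γ.left.affineCover.f i) this
    exact IsReduced.of_openCover _ 𝒰
  exact Groth.Agent.S2535.result (Ω := Ω) Γ.hom

variable {G X : Over (Spec (CommRingCat.of k))} [GrpObj G] (f : X ⟶ G)

/-- Geometrically reduced schemes mapping into every closed subgroup through `f`. -/
def Good (W : Over (Spec (CommRingCat.of k))) (h : W ⟶ G) : Prop :=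
  GeometricallyReduced W.hom ∧
    (∀ (Γ' : Over (Spec (CommRingCat.of k))) (_ : GrpObj Γ') (i' : Γ' ⟶ G), IsMonHom i' → IsClosedImmersion i'.left →
      (∃ f'' : X ⟶ Γ', f'' ≫ i' = f) → ∃ l : W ⟶ Γ', l ≫ i' = h) ∧
    ∀ (S : Scheme.{u}) (σ : S ⟶ Spec (CommRingCat.of k)) (Γ' : Over S) (_ : GrpObj Γ') (i' : Γ' ⟶ Red.bc σ G),
      IsMonHom i' → IsImmersion i'.left → (∃ f'' : Red.bc σ X ⟶ Γ', f'' ≫ i' = (Over.pullback σ).map f) →
        ∃ l : Red.bc σ W ⟶ Γ', l ≫ i' = (Over.pullback σ).map h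

theorem good_self [GeometricallyReduced X.hom] : Good f X f := ⟨inferInstance, fun _ _ _ _ _ h => h, fun _ _ _ _ _ _ _ h => h⟩

theorem good_one : Good f (𝟙_ _) η[G] := by
  refine ⟨?_, fun Γ' _ i' _ _ _ => ⟨η[Γ'], IsMonHom.one_hom i'⟩, fun S σ Γ' _ i' _ _ _ => ⟨1, ?_⟩⟩
  rotate_left
  · have : η[G] = 1 := by rw [Hom.one_def, toUnit_unit, Category.id_comp]
    rw [this, Functor.map_one (Over.pullback σ), MonObj.one_comp i']
  have : Algebra.IsGeometricallyReduced k k := by
    rw [Algebra.isGeometricallyReduced_field_iff]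
    exact isReduced_of_injective (Algebra.TensorProduct.rid k k (AlgebraicClosure k)) (AlgEquiv.injective _)
  have h := H52.FBase.GeomRedSch.geometricallyReduced_specMap k k
  rw [show Spec.map (CommRingCat.ofHom (algebraMap k k)) = 𝟙 (Spec (CommRingCat.of k)) from Spec.map_id _] at h
  exact h

theorem good_inv {W : Over (Spec (CommRingCat.of k))} {h : W ⟶ G} (hh : Good f W h) : Good f W h⁻¹ := by
  refine ⟨hh.1, fun Γ' _ i' hi hc hf => ?_, fun S σ Γ' _ i' hi hc hf => ?_⟩
  · obtain ⟨l, hl⟩ := hh.2.1 Γ' _ i' hi hc hf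
    exact ⟨l⁻¹, by rw [GrpObj.inv_comp, hl]⟩
  · obtain ⟨l, hl⟩ := hh.2.2 S σ Γ' _ i' hi hc hf
    refine ⟨l⁻¹, ?_⟩
    rw [GrpObj.inv_comp, hl]
    refine inv_eq_of_mul_eq_one_right ?_
    rw [← Functor.map_mul, mul_inv_cancel, Functor.map_one]

theorem good_mul {W W' : Over (Spec (CommRingCat.of k))} {h : W ⟶ G} {h' : W' ⟶ G} (hh : Good f W h)
    (hh' : Good f W' h') : Good f (W ⊗ W') ((h ⊗ₘ h') ≫ μ[G]) := by
  refine ⟨?_, fun Γ' _ i' hi hc hf => ?_, fun S σ Γ' _ i' hi hc hf => ?_⟩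
  · have := hh.1
    have := hh'.1
    exact H52.FBase.GeomRedSch.geometricallyReduced_prod W.hom W'.hom
  · obtain ⟨l, hl⟩ := hh.2.1 Γ' _ i' hi hc hf
    obtain ⟨l', hl'⟩ := hh'.2.1 Γ' _ i' hi hc hf
    exact ⟨(l ⊗ₘ l') ≫ μ[Γ'], by rw [Category.assoc, IsMonHom.mul_hom, tensorHom_comp_tensorHom_assoc, hl, hl']⟩
  · obtain ⟨l, hl⟩ := hh.2.2 S σ Γ' _ i' hi hc hf
    obtain ⟨l', hl'⟩ := hh'.2.2 S σ Γ' _ i' hi hc hf
    refine ⟨((Over.pullback σ).map (fst W W') ≫ l) * ((Over.pullback σ).map (snd W W') ≫ l'), ?_⟩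
    rw [show (h ⊗ₘ h') ≫ μ[G] = (fst W W' ≫ h) * (snd W W' ≫ h') by rw [Hom.mul_def, ← lift_fst_comp_snd_comp],
      Functor.map_mul, Functor.map_comp, Functor.map_comp, MonObj.mul_comp, Category.assoc, Category.assoc, hl, hl']

/-- Existence of the smallest closed subgroup through `f`, generated by pieces of any class `Q` of
morphisms containing `f` and stable under the group operations. -/
theorem exists_smallest_of [GeometricallyReduced X.hom]
    (Q : ∀ (W : Over (Spec (CommRingCat.of k))), (W ⟶ G) → Prop) (qf : Q X f) (qone : Q (𝟙_ _) η[G])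
    (qinv : ∀ (W : Over (Spec (CommRingCat.of k))) (h : W ⟶ G), Q W h → Q W h⁻¹)
    (qmul : ∀ (W W' : Over (Spec (CommRingCat.of k))) (h : W ⟶ G) (h' : W' ⟶ G),
      Good f W h → Good f W' h' → Q W h → Q W' h' → Q (W ⊗ W') ((h ⊗ₘ h') ≫ μ[G])) :
    ∃ (Γ : Over (Spec (CommRingCat.of k))) (_ : GrpObj Γ) (i : Γ ⟶ G), IsMonHom i ∧ IsClosedImmersion i.left ∧
      (∃ f' : X ⟶ Γ, f' ≫ i = f) ∧ GeometricallyReduced Γ.hom ∧
      (∀ (Γ' : Over (Spec (CommRingCat.of k))) (_ : GrpObj Γ') (i' : Γ' ⟶ G), IsMonHom i' → IsClosedImmersion i'.left →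
        (∃ f'' : X ⟶ Γ', f'' ≫ i' = f) → ∃ j : Γ ⟶ Γ', j ≫ i' = i) ∧
      ∀ O : Γ.left.Opens, (O : Set Γ.left).Nonempty →
        ∃ (W : Over (Spec (CommRingCat.of k))) (c : W ⟶ Γ), (Good f W (c ≫ i) ∧ Q W (c ≫ i)) ∧ ∃ w, c.left w ∈ O := by
  let P : Set G.left := {p | ∃ (W : Over (Spec (CommRingCat.of k))) (h : W ⟶ G), (Good f W h ∧ Q W h) ∧ p ∈ Set.range h.left}
  let I := Scheme.IdealSheafData.vanishingIdeal (TopologicalSpace.Closeds.closure P)
  let Γ : Over (Spec (CommRingCat.of k)) := Over.mk (I.subschemeι ≫ G.hom)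
  let i : Γ ⟶ G := Over.homMk I.subschemeι rfl
  have hic : IsClosedImmersion i.left := inferInstanceAs (IsClosedImmersion I.subschemeι)
  have hir : Set.range i.left = closure P := by
    show Set.range I.subschemeι = _
    rw [Scheme.IdealSheafData.range_subschemeι, Scheme.IdealSheafData.coe_support_vanishingIdeal]
    rfl
  have : IsReduced Γ.left := H75.RedSub.isReduced_vanishingIdeal _
  have : Mono i := (Over.forget _).mono_of_mono_map (show Mono i.left from inferInstance)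
  have lift : ∀ {T : Over (Spec (CommRingCat.of k))} (q : T ⟶ G), IsReduced T.left →
      Set.range q.left ⊆ closure P → ∃ l : T ⟶ Γ, l ≫ i = q := by
    intro T q _ hq
    obtain ⟨l, hl⟩ := H75.RedKer.exists_lift q.left i.left (hq.trans hir.ge)
    exact ⟨Over.homMk l (by rw [← Over.w i, ← Category.assoc, hl, Over.w q]), Over.OverMorphism.ext hl⟩
  have fac : ∀ {W : Over (Spec (CommRingCat.of k))} (h : W ⟶ G), (Good f W h ∧ Q W h) → ∃ l : W ⟶ Γ, l ≫ i = h :=
    fun {W} h hh => lift h (have := hh.1.1; isReduced_left W) fun p hp => subset_closure ⟨W, h, hh, hp⟩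
  have dense : ∀ O : Γ.left.Opens, (O : Set Γ.left).Nonempty →
      ∃ (W : Over (Spec (CommRingCat.of k))) (c : W ⟶ Γ), (Good f W (c ≫ i) ∧ Q W (c ≫ i)) ∧ ∃ w, c.left w ∈ O := by
    intro O ⟨x, hx⟩
    obtain ⟨O', hO', hOO'⟩ := i.left.isClosedEmbedding.isInducing.isOpen_iff.1 O.2
    have hx' : i.left x ∈ closure P := hir.le ⟨x, rfl⟩
    obtain ⟨p, hpO, W, h, hh, w, rfl⟩ := mem_closure_iff.1 hx' O' hO' (hOO'.ge hx)
    obtain ⟨l, rfl⟩ := fac h hh
    exact ⟨W, l, hh, w, hOO'.le (by rw [Set.mem_preimage, ← Scheme.Hom.comp_apply]; exact hpO)⟩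
  have hgr : GeometricallyReduced Γ.hom := geometricallyReduced_of_dense Γ fun O hO => by
    obtain ⟨W, c, hc, hw⟩ := dense O hO
    exact ⟨W, c, hc.1.1, hw⟩
  have : IsReduced (Γ ⊗ Γ).left := H52.FBase.ReducedProd.isReduced_pullback Γ.hom Γ.hom
  obtain ⟨mul, hmul⟩ := lift ((i ⊗ₘ i) ≫ μ[G]) ‹_› (by
    rintro _ ⟨z, rfl⟩
    refine mem_closure_iff.2 fun O hO hzO => ?_
    let O₂ : (Γ ⊗ Γ).left.Opens := ⟨((i ⊗ₘ i) ≫ μ[G]).left ⁻¹' O, hO.preimage ((i ⊗ₘ i) ≫ μ[G]).left.continuous⟩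
    -- a point of O₂ whose two projections come from good schemes
    have : UniversallyOpen (fst Γ Γ).left := GrpSch.fst_left_of (P := @UniversallyOpen) Γ inferInstance
    obtain ⟨W, c, hc, w, ⟨z', hz', hwz⟩⟩ := dense ⟨(fst Γ Γ).left '' O₂, (fst Γ Γ).left.isOpenMap _ O₂.2⟩
      ⟨_, z, hzO, rfl⟩
    obtain ⟨z'', hz'', -⟩ := Scheme.exists_preimage_of_isPullback (GrpSch.isPullback_whiskerRight c Γ) z' w hwz
    have : UniversallyOpen (snd W Γ).left := GrpSch.snd_left_of (P := @UniversallyOpen) Γ inferInstance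
    let O₃ : (W ⊗ Γ).left.Opens := (c ▷ Γ).left ⁻¹ᵁ O₂
    obtain ⟨W', c', hc', w', ⟨y, hy, hwy⟩⟩ := dense ⟨(snd W Γ).left '' O₃, (snd W Γ).left.isOpenMap _ O₃.2⟩
      ⟨_, z'', (show (c ▷ Γ).left z'' ∈ O₂ by rw [hz'']; exact hz'), rfl⟩
    obtain ⟨v, hv, -⟩ := Scheme.exists_preimage_of_isPullback (GrpSch.isPullback_whiskerLeft W c') y w' hwy
    refine ⟨(((c ≫ i) ⊗ₘ (c' ≫ i)) ≫ μ[G]).left v, ?_, W ⊗ W', _, ⟨good_mul f hc.1 hc'.1, qmul _ _ _ _ hc.1 hc'.1 hc.2 hc'.2⟩, v, rfl⟩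
    have e : ((c ≫ i) ⊗ₘ (c' ≫ i)) ≫ μ[G] = (W ◁ c') ≫ (c ▷ Γ) ≫ (i ⊗ₘ i) ≫ μ[G] := by
      rw [← tensorHom_comp_tensorHom, tensorHom_def', Category.assoc, Category.assoc]
    rw [e, Over.comp_left, Over.comp_left, Scheme.Hom.comp_apply, Scheme.Hom.comp_apply, hv]
    exact hy)
  obtain ⟨one, hone⟩ := fac η[G] ⟨good_one f, qone⟩
  obtain ⟨inv, hinv⟩ := lift (i ≫ GrpObj.inv) inferInstance (by
    rintro _ ⟨z, rfl⟩
    refine mem_closure_iff.2 fun O hO hzO => ?_
    obtain ⟨W, c, hc, w, hw⟩ := dense ⟨(i ≫ GrpObj.inv).left ⁻¹' O, hO.preimage (i ≫ GrpObj.inv).left.continuous⟩ ⟨z, hzO⟩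
    refine ⟨(c ≫ i)⁻¹.left w, ?_, W, _, ⟨good_inv f hc.1, qinv _ _ hc.2⟩, w, rfl⟩
    rw [show (c ≫ i)⁻¹ = c ≫ i ≫ GrpObj.inv from Category.assoc c i GrpObj.inv, Over.comp_left, Scheme.Hom.comp_apply]
    exact hw)
  obtain ⟨hG, hi⟩ := ActSep.exists_grpObj_of_mono i mul one inv hmul hone hinv
  refine ⟨Γ, hG, i, hi, hic, fac f ⟨good_self f, qf⟩, hgr, fun Γ' _ i' hi' hc' hf => ?_, dense⟩
  have hP : closure P ⊆ Set.range i'.left := by
    refine closure_minimal ?_ i'.left.isClosedEmbedding.isClosed_range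
    rintro _ ⟨W, h, hh, w, rfl⟩
    obtain ⟨l, rfl⟩ := hh.1.2.1 Γ' _ i' hi' hc' hf
    exact ⟨l.left w, by rw [Over.comp_left]; rfl⟩
  obtain ⟨j, hj⟩ := H75.RedKer.exists_lift i.left i'.left (hir.le.trans hP)
  exact ⟨Over.homMk j (by rw [← Over.w i', ← Category.assoc, hj, Over.w i]), Over.OverMorphism.ext hj⟩

/-- Existence of the smallest closed subgroup through `f`. -/
theorem exists_smallest [GeometricallyReduced X.hom] :
    ∃ (Γ : Over (Spec (CommRingCat.of k))) (_ : GrpObj Γ) (i : Γ ⟶ G), IsMonHom i ∧ IsClosedImmersion i.left ∧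
      (∃ f' : X ⟶ Γ, f' ≫ i = f) ∧ GeometricallyReduced Γ.hom ∧
      (∀ (Γ' : Over (Spec (CommRingCat.of k))) (_ : GrpObj Γ') (i' : Γ' ⟶ G), IsMonHom i' → IsClosedImmersion i'.left →
        (∃ f'' : X ⟶ Γ', f'' ≫ i' = f) → ∃ j : Γ ⟶ Γ', j ≫ i' = i) ∧
      ∀ O : Γ.left.Opens, (O : Set Γ.left).Nonempty →
        ∃ (W : Over (Spec (CommRingCat.of k))) (c : W ⟶ Γ), Good f W (c ≫ i) ∧ ∃ w, c.left w ∈ O := by
  obtain ⟨Γ, hG, i, hi, hc, hf, hgr, hmin, hdense⟩ :=
    exists_smallest_of f (fun _ _ => True) trivial trivial (fun _ _ _ => trivial) (fun _ _ _ _ _ _ _ _ => trivial)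
  exact ⟨Γ, hG, i, hi, hc, hf, hgr, hmin, fun O hO =>
    let ⟨W, c, hc, hw⟩ := hdense O hO
    ⟨W, c, hc.1, hw⟩⟩

open Groth.Agent.Lib.GrpSch in
/-- The smallest closed subgroup stays smallest among immersed subgroups after any base change. -/
theorem baseChange_factor {Γ : Over (Spec (CommRingCat.of k))} [GrpObj Γ] (i : Γ ⟶ G) [IsMonHom i]
    [IsClosedImmersion i.left] [GeometricallyReduced Γ.hom]
    (dense : ∀ O : Γ.left.Opens, (O : Set Γ.left).Nonempty →
      ∃ (W : Over (Spec (CommRingCat.of k))) (c : W ⟶ Γ), Good f W (c ≫ i) ∧ ∃ w, c.left w ∈ O)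
    (S : Scheme.{u}) (σ : S ⟶ Spec (CommRingCat.of k)) (Γ' : Over S) [GrpObj Γ'] (i' : Γ' ⟶ Red.bc σ G)
    [IsMonHom i'] [IsImmersion i'.left]
    (hf : ∃ f'' : Red.bc σ X ⟶ Γ', f'' ≫ i' = (Over.pullback σ).map f) :
    ∃ j : Red.bc σ Γ ⟶ Γ', j ≫ i' = (Over.pullback σ).map i := by
  let m := (Over.pullback σ).map i
  have hW : ∀ (W : Over (Spec (CommRingCat.of k))) (c : W ⟶ Γ), Good f W (c ≫ i) →
      ∃ l : Red.bc σ W ⟶ Γ', l ≫ i' = (Over.pullback σ).map c ≫ m := fun W c hc => by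
    obtain ⟨l, hl⟩ := hc.2.2 S σ Γ' _ i' inferInstance inferInstance hf
    exact ⟨l, hl.trans (Functor.map_comp _ _ _)⟩
  -- pointwise
  have hrange : Set.range m.left ⊆ Set.range i'.left := by
    rintro _ ⟨δ, rfl⟩
    let s := (Red.bc σ Γ).hom δ
    let t := S.fromSpecResidueField s
    let m' := (Over.pullback t).map m
    let j' := (Over.pullback t).map i'
    have hj' : IsImmersion j'.left :=
      MorphismProperty.of_isPullback (isPullback_bc_map t i').flip inferInstance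
    have hcl : IsClosed (Set.range j'.left) :=
      ActSep.isClosed_of_mulStable j'.left.isLocallyClosed_range
        ⟨_, ⟨η[Red.bc t Γ'].left (IsLocalRing.closedPoint (S.residueField s)), rfl⟩⟩
        (fun z h1 h2 => ActSep.range_mulStable j' z h1 h2) (fun g hg => ActSep.range_invStable j' g hg)
        (fun K _ r => ActSep.universallyOpen_fieldPoint _ K r)
    obtain ⟨δ', hδ', -⟩ := Scheme.exists_preimage_of_isPullback (isPullback_bc t (Red.bc σ Γ)) δ
      (IsLocalRing.closedPoint (S.residueField s)) (Scheme.fromSpecResidueField_apply _ _).symm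
    have hall : m'.left ⁻¹' Set.range j'.left = Set.univ := by
      refine Set.eq_univ_of_forall fun z => (hcl.preimage m'.left.continuous).closure_subset ?_
      refine mem_closure_iff.2 fun O hO hzO => ?_
      let pr := bcProj t (Red.bc σ Γ) ≫ bcProj σ Γ
      have : UniversallyOpen pr :=
        MorphismProperty.of_isPullback ((isPullback_bc t (Red.bc σ Γ)).paste_horiz (isPullback_bc σ Γ)).flip inferInstance
      obtain ⟨W, c, hc, w, ⟨z', hz', hwz⟩⟩ := dense ⟨pr '' O, pr.isOpenMap _ hO⟩ ⟨_, z, hzO, rfl⟩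
      obtain ⟨l, hl⟩ := hW W c hc
      obtain ⟨v, hv, -⟩ := Scheme.exists_preimage_of_isPullback (isPullback_bc_map σ c)
        (bcProj t (Red.bc σ Γ) z') w ((Scheme.Hom.comp_apply _ _ _).symm.trans hwz)
      obtain ⟨γ, hγ, -⟩ := Scheme.exists_preimage_of_isPullback (isPullback_bc_map t i') (m'.left z') (l.left v) (by
        rw [← Scheme.Hom.comp_apply, bc_map_proj t m, Scheme.Hom.comp_apply, ← hv, ← Scheme.Hom.comp_apply,
          ← Scheme.Hom.comp_apply, ← Over.comp_left, ← Over.comp_left, hl])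
      exact ⟨z', hz', γ, hγ⟩
    have hmem : δ' ∈ m'.left ⁻¹' Set.range j'.left := hall ▸ Set.mem_univ _
    obtain ⟨γ, hγ⟩ := hmem
    refine ⟨bcProj t Γ' γ, ?_⟩
    rw [← Scheme.Hom.comp_apply, ← bc_map_proj t i', Scheme.Hom.comp_apply, hγ, ← Scheme.Hom.comp_apply,
      bc_map_proj t m, Scheme.Hom.comp_apply, hδ']
  -- scheme-theoretically
  let q := pullback.fst m.left i'.left
  have hqs : Set.range q = Set.univ := by
    refine Set.eq_univ_of_forall fun δ => ?_
    obtain ⟨γ, hγ⟩ := hrange ⟨δ, rfl⟩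
    obtain ⟨v, hv, -⟩ := Scheme.exists_preimage_of_isPullback (IsPullback.of_hasPullback m.left i'.left) δ γ hγ.symm
    exact ⟨v, hv⟩
  have : IsClosedImmersion q := IsClosedImmersion.of_isPreimmersion q (hqs ▸ isClosed_univ)
  let Sk : Over (Spec (CommRingCat.of k)) := Over.mk σ
  let P₀ : Over (Spec (CommRingCat.of k)) := Over.mk (q ≫ (Γ ⊗ Sk).hom)
  let y : P₀ ⟶ Γ ⊗ Sk := Over.homMk q rfl
  have : IsClosedImmersion y.left := ‹IsClosedImmersion q›
  obtain ⟨C, c₀, hc₀, hC, -⟩ := FreeRes.exists_closed_factor (P := Γ) (X := Sk)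
    (FreeRes.isEssentiallyFree_field _) (𝟙 _) y
  have hsurj : Set.range c₀.left = Set.univ := by
    refine Set.eq_univ_of_forall fun x => c₀.left.isClosedEmbedding.isClosed_range.closure_subset ?_
    refine mem_closure_iff.2 fun O hO hxO => ?_
    obtain ⟨W, c, hc, w, hw⟩ := dense ⟨O, hO⟩ ⟨x, hxO⟩
    obtain ⟨l, hl⟩ := hW W c hc
    have hcs : (c ▷ Sk).left = ((Over.pullback σ).map c).left := by
      apply pullback.hom_ext
      · exact (congrArg CommaMorphism.left (whiskerRight_fst c Sk)).trans (bc_map_proj σ c).symm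
      · exact (congrArg CommaMorphism.left (whiskerRight_snd c Sk)).trans (Over.w ((Over.pullback σ).map c)).symm
    have hl' : (c ▷ Sk).left ≫ m.left = l.left ≫ i'.left := by
      rw [← Over.comp_left, hl, Over.comp_left, hcs]
    let L := pullback.lift (c ▷ Sk).left l.left hl'
    have hL : L ≫ q = (c ▷ Sk).left := pullback.lift_fst _ _ _
    obtain ⟨z, hz⟩ := (hC c).2 ⟨Over.homMk L (by
        show L ≫ q ≫ (Γ ⊗ Sk).hom = _
        rw [← Category.assoc, hL]
        exact Over.w (c ▷ Sk)), by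
      rw [Category.comp_id]
      exact Over.OverMorphism.ext hL⟩
    exact ⟨c.left w, hw, z.left w, by rw [← Scheme.Hom.comp_apply, ← Over.comp_left, hz]⟩
  have : IsReduced Γ.left := isReduced_left Γ
  obtain ⟨l₀, hl₀⟩ := H75.RedKer.exists_lift (𝟙 Γ.left) c₀.left (fun x _ => hsurj.symm ▸ Set.mem_univ x)
  obtain ⟨sec, hsec⟩ := (hC (𝟙 Γ)).1 ⟨Over.homMk l₀ (by rw [← Over.w c₀, ← Category.assoc, hl₀, Category.id_comp]),
    Over.OverMorphism.ext hl₀⟩
  rw [id_whiskerRight, Category.id_comp] at hsec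
  let jl : (Red.bc σ Γ).left ⟶ Γ'.left := sec.left ≫ pullback.snd m.left i'.left
  have hj : jl ≫ i'.left = m.left := by
    have h1 : sec.left ≫ q = 𝟙 (Γ ⊗ Sk).left := (congrArg CommaMorphism.left hsec :)
    show (sec.left ≫ pullback.snd m.left i'.left) ≫ i'.left = _
    rw [Category.assoc, ← pullback.condition, ← Category.assoc, h1]
    exact Category.id_comp _
  exact ⟨Over.homMk jl (by rw [← Over.w i', ← Category.assoc, hj, Over.w m]), Over.OverMorphism.ext hj⟩

end Groth.Agent.Lib.GenSub
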