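import Groth.Agent.Lib.GrpSch.Basic
import Mathlib.AlgebraicGeometry.Morphisms.FinitePresentation
import Mathlib.AlgebraicGeometry.AlgClosed.Basic

/-!
Words in a morphism to a group scheme.
-/

set_option autoImplicit false

universe u

open CategoryTheory Limits MonoidalCategory CartesianMonoidalCategory MonObj AlgebraicGeometry

namespace Groth.Agent.Lib.GenSub

variable {S : Scheme.{u}} {X H : Over S} [GrpObj H] (f : X ⟶ H)

/-- The source of the word morphism. -/
noncomputable def wordObj (X : Over S) : List Bool → Over S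
  | [] => 𝟙_ (Over S)
  | _ :: l => X ⊗ wordObj X l

/-- The signed evaluation of a point. -/
noncomputable def sgn (b : Bool) {T : Over S} (x : T ⟶ X) : T ⟶ H := if b then x ≫ f else (x ≫ f)⁻¹

/-- The word morphism of a list of signs. -/
noncomputable def wordHom : ∀ l : List Bool, wordObj X l ⟶ H
  | [] => 1
  | b :: l => sgn f b (fst X (wordObj X l)) * (snd X (wordObj X l) ≫ wordHom l)

/-- The signed product of a family of points. -/
noncomputable def wprod {m : ℕ} (ε : Fin m → Bool) {T : Over S} (x : Fin m → (T ⟶ X)) : T ⟶ H :=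
  (List.ofFn fun j => if ε j then x j ≫ f else (x j ≫ f)⁻¹).prod

theorem comp_sgn (b : Bool) {T T' : Over S} (t : T' ⟶ T) (x : T ⟶ X) : t ≫ sgn f b x = sgn f b (t ≫ x) := by
  unfold sgn; split <;> simp [GrpObj.comp_inv]

theorem wprod_succ {m : ℕ} (ε : Fin (m + 1) → Bool) {T : Over S} (x : Fin (m + 1) → (T ⟶ X)) :
    wprod f ε x = sgn f (ε 0) (x 0) * wprod f (fun j => ε j.succ) (fun j => x j.succ) := by
  rw [wprod, List.ofFn_succ, List.prod_cons]; rfl

theorem comp_wprod {m : ℕ} (ε : Fin m → Bool) {T T' : Over S} (t : T' ⟶ T) (x : Fin m → (T ⟶ X)) :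
    t ≫ wprod f ε x = wprod f ε (fun j => t ≫ x j) := by
  induction m with
  | zero => simp [wprod]
  | succ m ih => rw [wprod_succ, wprod_succ, MonObj.comp_mul, comp_sgn, ih]

/-- The universal points. -/
theorem exists_universal : ∀ l : List Bool, ∃ x : Fin l.length → (wordObj X l ⟶ X),
    wprod f l.get x = wordHom f l
  | [] => ⟨Fin.elim0, by simp [wprod, wordHom]⟩
  | b :: l => by
    obtain ⟨x, hx⟩ := exists_universal l
    refine ⟨Fin.cases (fst X (wordObj X l)) (fun j => snd X (wordObj X l) ≫ x j), ?_⟩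
    show wprod f (m := l.length + 1) (b :: l).get _ = _
    rw [wprod_succ, wordHom, ← hx, comp_wprod]
    rfl

theorem exists_factor : ∀ (l : List Bool) {T : Over S} (x : Fin l.length → (T ⟶ X)),
    ∃ t : T ⟶ wordObj X l, t ≫ wordHom f l = wprod f l.get x
  | [], T, x => ⟨toUnit T, by show toUnit T ≫ (1 : 𝟙_ (Over S) ⟶ H) = _; rw [MonObj.comp_one]; simp [wprod]⟩
  | b :: l, T, x => by
    obtain ⟨t, ht⟩ := exists_factor l (fun j => x j.succ)
    refine ⟨lift (x 0) t, ?_⟩
    change (lift (x 0) t : T ⟶ X ⊗ wordObj X l) ≫ (sgn f b (fst X (wordObj X l)) * (snd X (wordObj X l) ≫ wordHom f l) : X ⊗ wordObj X l ⟶ H) = wprod f (m := l.length + 1) (b :: l).get _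
    rw [MonObj.comp_mul, comp_sgn, lift_fst, lift_snd_assoc, ht, wprod_succ]
    rfl

/-- A point lies under a word exactly when it is in the range of a word morphism. -/
theorem mem_range_iff (l : List Bool) (h : H.left) :
    h ∈ Set.range (wordHom f l).left ↔
      ∃ (T : Over S) (p : T.left) (x : Fin l.length → (T ⟶ X)), (wprod f l.get x).left p = h := by
  constructor
  · rintro ⟨w, rfl⟩
    obtain ⟨x, hx⟩ := exists_universal f l
    exact ⟨_, w, x, by rw [hx]⟩
  · rintro ⟨T, p, x, rfl⟩
    obtain ⟨t, ht⟩ := exists_factor f l x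
    exact ⟨t.left p, by rw [← ht]; rfl⟩

theorem exists_list {m : ℕ} (ε : Fin m → Bool) {T : Over S} (x : Fin m → (T ⟶ X)) :
    ∃ (l : List Bool) (x' : Fin l.length → (T ⟶ X)), l.length = m ∧ wprod f l.get x' = wprod f ε x := by
  refine ⟨List.ofFn ε, fun j => x (j.cast (List.length_ofFn)), List.length_ofFn, ?_⟩
  unfold wprod
  congr 1
  refine List.ext_getElem (by simp) fun n h₁ h₂ => ?_
  simp

theorem lfp_wordObj [LocallyOfFinitePresentation X.hom] : ∀ l : List Bool,
    LocallyOfFinitePresentation (wordObj X l).hom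
  | [] => inferInstanceAs (LocallyOfFinitePresentation (𝟙 S))
  | _ :: l => by
    have := lfp_wordObj l
    show LocallyOfFinitePresentation (X ⊗ wordObj X l).hom
    have := GrpSch.fst_left_of (P := @LocallyOfFinitePresentation) X this
    rw [← Over.w (fst X (wordObj X l))]
    infer_instance

theorem lft_wordObj [LocallyOfFiniteType X.hom] : ∀ l : List Bool, LocallyOfFiniteType (wordObj X l).hom
  | [] => inferInstanceAs (LocallyOfFiniteType (𝟙 S))
  | _ :: l => by
    have := lft_wordObj l
    show LocallyOfFiniteType (X ⊗ wordObj X l).hom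
    have := GrpSch.fst_left_of (P := @LocallyOfFiniteType) X this
    rw [← Over.w (fst X (wordObj X l))]
    infer_instance

section Field

variable {k : Type u} [Field k] [IsAlgClosed k]

/-- A rational point lying in the image of a scheme locally of finite type lifts. -/
theorem exists_rational_lift {G W : Over (Spec (CommRingCat.of k))} [LocallyOfFiniteType G.hom]
    [LocallyOfFiniteType W.hom] (h : W ⟶ G) (g : 𝟙_ (Over (Spec (CommRingCat.of k))) ⟶ G)
    (p₀ : ↥(𝟙_ (Over (Spec (CommRingCat.of k)))).left) (hg : g.left p₀ ∈ Set.range h.left) :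
    ∃ w : 𝟙_ (Over (Spec (CommRingCat.of k))) ⟶ W, w ≫ h = g := by
  have hgw : g.left ≫ G.hom = 𝟙 _ := Over.w g
  have hcl : IsClosed ({g.left (IsLocalRing.closedPoint k)} : Set G.left) :=
    ((pointEquivClosedPoint G.hom) ⟨g.left, hgw⟩).2
  have hp : g.left p₀ = g.left (IsLocalRing.closedPoint k) :=
    congrArg g.left (Subsingleton.elim (α := PrimeSpectrum k) _ _)
  obtain ⟨w₀, hw₀⟩ := hg
  have : JacobsonSpace W.left := LocallyOfFiniteType.jacobsonSpace W.hom
  obtain ⟨w, hw, hwc'⟩ := nonempty_inter_closedPoints (Z := h.left ⁻¹' {g.left (IsLocalRing.closedPoint k)})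
    ⟨w₀, hw₀.trans hp⟩ (hcl.preimage h.left.continuous).isLocallyClosed
  have hwc : IsClosed ({w} : Set W.left) := hwc'
  refine ⟨Over.homMk (pointOfClosedPoint W.hom w hwc) (pointOfClosedPoint_comp _ _ _), Over.OverMorphism.ext ?_⟩
  refine ext_of_apply_closedPoint_eq G.hom ?_ hgw ?_
  · show (pointOfClosedPoint W.hom w hwc ≫ h.left) ≫ G.hom = _
    rw [Category.assoc, Over.w h, pointOfClosedPoint_comp]
  · show h.left (pointOfClosedPoint W.hom w hwc _) = _
    exact (congrArg h.left (pointOfClosedPoint_apply W.hom w hwc _)).trans hw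

end Field

end Groth.Agent.Lib.GenSub
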