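import Groth.Agent.Lib.GenSub.Basic
import Groth.Agent.Lib.GenSub.Words
import Groth.Agent.Lib.Solv.Witness
import Mathlib.AlgebraicGeometry.Geometrically.Connected
import Mathlib.Data.Set.Finite.List

/-!
Words of bounded length in a geometrically connected scheme mapping to an algebraic group.
-/

set_option autoImplicit false

universe u v

open CategoryTheory Limits MonoidalCategory CartesianMonoidalCategory MonObj AlgebraicGeometry
open scoped Pointwise

namespace Groth.Agent.Lib.GenSub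

open Groth.Agent.Lib.Solv

section Abstract

variable {Γ : Type u} [Group Γ] [TopologicalSpace Γ]

/-- Linked irreducible images through the unit generate a subgroup with bounded width. -/
theorem exists_bound_linked (z : Zar Γ) (C : ImgClass Γ)
    [WellFoundedGT (TopologicalSpace.IrreducibleCloseds Γ)] {J : Type v} (A : J → Set Γ)
    (hA : ∀ i, IsIrreducible (A i)) (hI : ∀ i, C.Img (A i)) (i₀ : J) (h₀ : (1 : Γ) ∈ A i₀)
    (hlink : ∀ p : J → Prop, (∀ i j, (A i ∩ A j).Nonempty → p i → p j) → p i₀ → ∀ i, p i)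
    (S : Set Γ) (hS : ∀ i, A i ⊆ S) (hSinv : ∀ x ∈ S, x⁻¹ ∈ S) :
    ∃ m : ℕ, (Subgroup.closure (⋃ i, A i) : Set Γ) ⊆ S ^ m := by
  have hS1 : (1 : Γ) ∈ S := hS i₀ h₀
  have hinvS : ∀ i, (A i)⁻¹ ⊆ S := fun i x hx => by simpa using hSinv _ (hS i hx)
  have hY : ∀ i, IsIrreducible ((A i)⁻¹ * A i) := fun i => by
    refine isIrreducible_image2 z.mulRight z.mulLeft ?_ (hA i)
    rw [← Set.image_inv_eq_inv]
    exact (hA i).image _ z.inv.continuousOn
  obtain ⟨m, hm⟩ := exists_bound_generated z C (fun i => (A i)⁻¹ * A i) hY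
    (fun i => C.mul _ _ (C.invImg _ (hI i)) (hI i))
    (fun i => by
      obtain ⟨a, ha⟩ := (hA i).1
      exact ⟨a⁻¹, by simpa using ha, a, ha, inv_mul_cancel a⟩)
    (S * S) (fun i => Set.mul_subset_mul (hinvS i) (hS i)) ⟨1, hS1, 1, hS1, _root_.one_mul 1⟩
    (by rintro _ ⟨a, ha, b, hb, rfl⟩; exact ⟨b⁻¹, hSinv b hb, a⁻¹, hSinv a ha, (mul_inv_rev a b).symm⟩)
  refine ⟨2 * m, ?_⟩
  rw [pow_mul, pow_two]
  refine le_trans ?_ hm
  refine (Subgroup.closure_le _).2 (Set.iUnion_subset ?_)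
  refine hlink (fun i => A i ⊆ _) ?_ fun a ha => Subgroup.subset_closure
    (Set.mem_iUnion.2 ⟨i₀, 1, by simpa using h₀, a, ha, _root_.one_mul a⟩)
  rintro i j ⟨x, hxi, hxj⟩ hi a ha
  have h1 : x⁻¹ * a ∈ Subgroup.closure (⋃ i, (A i)⁻¹ * A i) :=
    Subgroup.subset_closure (Set.mem_iUnion.2 ⟨j, x⁻¹, by simpa using hxj, a, ha, rfl⟩)
  have h2 := Subgroup.mul_mem _ (show x ∈ Subgroup.closure (⋃ i, (A i)⁻¹ * A i) from hi hxi) h1
  simpa using h2

end Abstract

section AlgClosed

variable {K : Type u} [Field K] [IsAlgClosed K] {G X : Over (Spec (CommRingCat.of K))} [GrpObj G]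
  [LocallyOfFiniteType G.hom] [QuasiCompact G.hom] [LocallyOfFiniteType X.hom] [QuasiCompact X.hom]

/-- A connected scheme meeting the unit generates with bounded width. -/
theorem exists_bound_of_connected [ConnectedSpace X.left] (f : X ⟶ G) (he : ∃ x : Pts X, x ≫ f = 1) :
    ∃ m : ℕ, (Subgroup.closure (Set.range fun x : Pts X => x ≫ f) : Set (Pts G)) ⊆
      ((Set.range fun x : Pts X => x ≫ f) ∪ (Set.range fun x : Pts X => x ≫ f)⁻¹) ^ m := by
  letI := ptTop G
  letI := ptTop X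
  have := wellFoundedGT_pts G
  have := isNoetherian_left X
  have : JacobsonSpace X.left := LocallyOfFiniteType.jacobsonSpace X.hom
  let J := {Z : Set X.left // Z ∈ irreducibleComponents X.left}
  let A : J → Set (Pts G) := fun Z => (fun x : Pts X => x ≫ f) '' (ptMap X ⁻¹' Z.1)
  have hZc : ∀ Z : J, IsClosed Z.1 := fun Z => isClosed_of_mem_irreducibleComponents _ Z.2
  have hpt : ∀ {s : Set X.left}, IsLocallyClosed s → s.Nonempty → ∃ x : Pts X, ptMap X x ∈ s :=
    fun hs hne => exists_pt_of_isLocallyClosed X hs hne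
  have hcont : Continuous fun x : Pts X => x ≫ f :=
    continuous_induced_rng.2 (f.left.continuous.comp continuous_induced_dom)
  have hirr : ∀ Z : J, IsIrreducible (A Z) := fun Z => by
    refine IsIrreducible.image ⟨?_, ?_⟩ _ hcont.continuousOn
    · exact (hpt (hZc Z).isLocallyClosed Z.2.1.1).imp fun _ h => h
    · intro u v hu hv ⟨a, haZ, hau⟩ ⟨b, hbZ, hbv⟩
      obtain ⟨u', hu', rfl⟩ := isOpen_induced_iff.1 hu
      obtain ⟨v', hv', rfl⟩ := isOpen_induced_iff.1 hv
      obtain ⟨y, hy⟩ := Z.2.1.2 u' v' hu' hv' ⟨_, haZ, hau⟩ ⟨_, hbZ, hbv⟩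
      obtain ⟨x, hx⟩ := hpt ((hZc Z).isLocallyClosed.inter ((hu'.inter hv').isLocallyClosed)) ⟨y, hy⟩
      exact ⟨x, hx⟩
  have himg : ∀ Z : J, (imgClass G).Img (A Z) := fun Z => by
    let I := Scheme.IdealSheafData.vanishingIdeal (⟨Z.1, hZc Z⟩ : TopologicalSpace.Closeds X.left)
    let W : Over (Spec (CommRingCat.of K)) := Over.mk (I.subschemeι ≫ X.hom)
    let q : W ⟶ X := Over.homMk I.subschemeι rfl
    have hr : Set.range I.subschemeι = Z.1 := by
      rw [Scheme.IdealSheafData.range_subschemeι, Scheme.IdealSheafData.coe_support_vanishingIdeal]; rfl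
    refine ⟨W, q ≫ f, inferInstanceAs (LocallyOfFiniteType (I.subschemeι ≫ X.hom)),
      inferInstanceAs (QuasiCompact (I.subschemeι ≫ X.hom)), Set.ext fun g => ⟨?_, ?_⟩⟩
    · rintro ⟨x, hx, rfl⟩
      have : LocallyOfFiniteType W.hom := inferInstanceAs (LocallyOfFiniteType (I.subschemeι ≫ X.hom))
      obtain ⟨w, hw⟩ := exists_rational_lift q x (IsLocalRing.closedPoint K) (hr.ge hx)
      exact ⟨w, by show w ≫ q ≫ f = x ≫ f; rw [← Category.assoc, hw]⟩
    · rintro ⟨w, rfl⟩
      exact ⟨w ≫ q, hr.le ⟨ptMap W w, rfl⟩, Category.assoc w q f⟩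
  obtain ⟨x₀, hx₀⟩ := he
  let i₀ : J := ⟨irreducibleComponent (ptMap X x₀), irreducibleComponent_mem_irreducibleComponents _⟩
  have hlink : ∀ p : J → Prop, (∀ i j, (A i ∩ A j).Nonempty → p i → p j) → p i₀ → ∀ i, p i := by
    intro p hp h₀ i
    have : Finite J := (TopologicalSpace.NoetherianSpace.finite_irreducibleComponents (α := X.left)).to_subtype
    let F : Set X.left := ⋃ j ∈ {j : J | p j}, j.1
    let F' : Set X.left := ⋃ j ∈ {j : J | ¬ p j}, j.1
    have hF : IsClosed F := Set.Finite.isClosed_biUnion (Set.toFinite _) fun j _ => hZc j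
    have hF' : IsClosed F' := Set.Finite.isClosed_biUnion (Set.toFinite _) fun j _ => hZc j
    have hcov : ∀ x : X.left, x ∈ F ∪ F' := fun x => by
      let j : J := ⟨irreducibleComponent x, irreducibleComponent_mem_irreducibleComponents x⟩
      by_cases hj : p j
      · exact Or.inl (Set.mem_biUnion (x := j) hj mem_irreducibleComponent)
      · exact Or.inr (Set.mem_biUnion (x := j) hj mem_irreducibleComponent)
    by_contra hi
    have hne : (F ∩ F').Nonempty := by
      have h := isPreconnected_closed_iff.1 isPreconnected_univ F F' hF hF' (fun x _ => hcov x)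
        ⟨_, trivial, Set.mem_biUnion (x := i₀) h₀ mem_irreducibleComponent⟩
        ⟨_, trivial, Set.mem_biUnion (x := i) hi i.2.1.1.some_mem⟩
      exact h.imp fun _ hx => hx.2
    obtain ⟨y, hy, hy'⟩ := hne
    obtain ⟨a, ha, hya⟩ := Set.mem_iUnion₂.1 hy
    obtain ⟨b, hb, hyb⟩ := Set.mem_iUnion₂.1 hy'
    obtain ⟨x, hxa, hxb⟩ := hpt ((hZc a).inter (hZc b)).isLocallyClosed ⟨y, hya, hyb⟩
    exact hb (hp a b ⟨_, ⟨x, hxa, rfl⟩, ⟨x, hxb, rfl⟩⟩ ha)
  obtain ⟨m, hm⟩ := exists_bound_linked (zar G) (imgClass G) A hirr himg i₀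
    ⟨x₀, mem_irreducibleComponent, hx₀⟩ hlink
    ((Set.range fun x : Pts X => x ≫ f) ∪ (Set.range fun x : Pts X => x ≫ f)⁻¹)
    (fun Z => by rintro _ ⟨x, -, rfl⟩; exact Or.inl ⟨x, rfl⟩)
    (fun g hg => hg.elim (fun h => Or.inr (by simpa using h)) (fun h => Or.inl (by simpa using h)))
  refine ⟨m, le_trans (Subgroup.closure_mono ?_) hm⟩
  rintro _ ⟨x, rfl⟩
  exact Set.mem_iUnion.2
    ⟨⟨_, irreducibleComponent_mem_irreducibleComponents (ptMap X x)⟩, x, mem_irreducibleComponent, rfl⟩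

end AlgClosed

variable {k : Type u} [Field k] {G X : Over (Spec (CommRingCat.of k))} [GrpObj G] (f : X ⟶ G)

/-- The points under words of length `n`. -/
def wordSet (n : ℕ) : Set G.left :=
  {g | ∃ (T : Over (Spec (CommRingCat.of k))) (p : T.left) (x : Fin n → (T ⟶ X)) (ε : Fin n → Bool),
    (wprod f ε x).left p = g}

theorem wordSet_eq (n : ℕ) :
    wordSet f n = ⋃ l ∈ {l : List Bool | l.length = n}, Set.range (wordHom f l).left := by
  ext g
  constructor
  · rintro ⟨T, p, x, ε, h⟩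
    obtain ⟨l, x', hl, he⟩ := exists_list f ε x
    exact Set.mem_biUnion (x := l) hl ((mem_range_iff f l g).2 ⟨T, p, x', by rw [he]; exact h⟩)
  · intro h
    obtain ⟨l, rfl, hl⟩ := Set.mem_iUnion₂.1 h
    obtain ⟨T, p, x, hx⟩ := (mem_range_iff f l g).1 hl
    exact ⟨T, p, x, l.get, hx⟩

theorem qc_wordObj [QuasiCompact X.hom] : ∀ l : List Bool, QuasiCompact (wordObj X l).hom
  | [] => inferInstanceAs (QuasiCompact (𝟙 (Spec (CommRingCat.of k))))
  | _ :: l => by
    have := qc_wordObj l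
    show QuasiCompact (X ⊗ wordObj X l).hom
    have := GrpSch.fst_left_of (P := @QuasiCompact) X this
    rw [← Over.w (fst X (wordObj X l))]
    infer_instance

/-- The values of a morphism and their inverses. -/
def signed (T : Over (Spec (CommRingCat.of k))) : Set (T ⟶ G) :=
  (Set.range fun x : T ⟶ X => x ≫ f) ∪ (Set.range fun x : T ⟶ X => x ≫ f)⁻¹

theorem mem_signed_pow_iff {T : Over (Spec (CommRingCat.of k))} {n : ℕ} {g : T ⟶ G} :
    g ∈ signed f T ^ n ↔ ∃ (x : Fin n → (T ⟶ X)) (ε : Fin n → Bool), wprod f ε x = g := by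
  induction n generalizing g with
  | zero =>
    rw [pow_zero, Set.mem_one]
    exact ⟨fun h => ⟨Fin.elim0, Fin.elim0, by simp [wprod, h]⟩, fun ⟨x, ε, h⟩ => by simpa [wprod] using h.symm⟩
  | succ n ih =>
    rw [pow_succ', Set.mem_mul]
    constructor
    · rintro ⟨a, ha, b, hb, rfl⟩
      obtain ⟨x, ε, rfl⟩ := ih.1 hb
      rcases ha with ⟨y, rfl⟩ | ha
      · exact ⟨Fin.cons y x, Fin.cons true ε, by rw [wprod_succ]; rfl⟩
      · obtain ⟨y, hy⟩ := ha
        refine ⟨Fin.cons y x, Fin.cons false ε, ?_⟩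
        rw [wprod_succ]
        show (y ≫ f)⁻¹ * _ = _
        rw [show y ≫ f = a⁻¹ from hy, inv_inv]
        rfl
    · rintro ⟨x, ε, rfl⟩
      refine ⟨sgn f (ε 0) (x 0), ?_, _, ih.2 ⟨_, _, rfl⟩, (wprod_succ f ε x).symm⟩
      unfold sgn
      split
      · exact Or.inl ⟨_, rfl⟩
      · exact Or.inr (by rw [Set.mem_inv, inv_inv]; exact ⟨_, rfl⟩)

variable [LocallyOfFiniteType G.hom] [LocallyOfFiniteType X.hom] [QuasiCompact X.hom]

theorem lfp_of_field (W : Over (Spec (CommRingCat.of k))) [LocallyOfFiniteType W.hom] :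
    LocallyOfFinitePresentation W.hom := inferInstance

theorem isLocallyConstructible_wordSet [QuasiCompact G.hom] [QuasiSeparated G.hom] (n : ℕ) :
    Topology.IsLocallyConstructible (wordSet f n) := by
  rw [wordSet_eq]
  refine Topology.IsLocallyConstructible.biUnion (List.finite_length_eq Bool n) fun l _ => ?_
  have := lfp_of_field G
  have := lfp_of_field X
  have := lfp_wordObj (X := X) l
  have := qc_wordObj (X := X) l
  rw [← Set.image_univ]
  exact image_props (wordHom f l) Topology.IsLocallyConstructible.univ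

/-- A point with values in an algebraically closed field lies under a word exactly when it is one. -/
theorem pt_mem_wordSet_iff {Ω : Type u} [Field Ω] [IsAlgClosed Ω]
    (t : Spec (CommRingCat.of Ω) ⟶ Spec (CommRingCat.of k)) (n : ℕ) (g : Over.mk t ⟶ G) :
    pt g ∈ wordSet f n ↔ g ∈ signed f (Over.mk t) ^ n := by
  rw [mem_signed_pow_iff]
  constructor
  · intro h
    rw [wordSet_eq] at h
    obtain ⟨l, hl, hg⟩ := Set.mem_iUnion₂.1 h
    have := qc_wordObj (X := X) l
    have := lft_wordObj (X := X) l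
    have : LocallyOfFiniteType ((wordHom f l).left ≫ G.hom) := by rw [Over.w]; infer_instance
    have : LocallyOfFiniteType (wordHom f l).left := locallyOfFiniteType_of_comp _ G.hom
    have : IsSeparated G.hom := GrpSch.isSeparated_of_field G
    have : QuasiCompact ((wordHom f l).left ≫ G.hom) := by rw [Over.w]; infer_instance
    have : QuasiCompact (wordHom f l).left := QuasiCompact.of_comp _ G.hom
    rw [← Set.image_univ] at hg
    obtain ⟨u, -, hu⟩ := exists_lift_pt (wordHom f l) Topology.IsLocallyConstructible.univ g hg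
    obtain ⟨x, hx⟩ := exists_universal f l
    subst hl
    exact ⟨fun j => u ≫ x j, l.get, by rw [← comp_wprod, hx, hu]⟩
  · rintro ⟨x, ε, rfl⟩
    exact ⟨_, IsLocalRing.closedPoint Ω, x, ε, rfl⟩

/-- A geometrically connected scheme meeting the unit generates with bounded width. -/
theorem exists_bound [QuasiCompact G.hom] [GeometricallyConnected X.hom]
    (he : ∃ x : X.left, f.left x ∈ Set.range (η[G] : 𝟙_ (Over (Spec (CommRingCat.of k))) ⟶ G).left) :
    ∃ M : ℕ, (Subgroup.closure (signed f (Over.mk (GrpSch.extBase k (AlgebraicClosure k)))) :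
        Set (Over.mk (GrpSch.extBase k (AlgebraicClosure k)) ⟶ G)) ⊆
      signed f (Over.mk (GrpSch.extBase k (AlgebraicClosure k))) ^ M := by
  let Ω := AlgebraicClosure k
  let j := GrpSch.extBase k Ω
  let T : Over (Spec (CommRingCat.of k)) := Over.mk j
  have : IsSeparated G.hom := GrpSch.isSeparated_of_field G
  have := GrpSch.bc_hom_of (P := @LocallyOfFiniteType) j G ‹_›
  have := GrpSch.bc_hom_of (P := @QuasiCompact) j G ‹_›
  have := GrpSch.bc_hom_of (P := @LocallyOfFiniteType) j X ‹_›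
  have := GrpSch.bc_hom_of (P := @QuasiCompact) j X ‹_›
  have := GrpSch.bc_hom_of (P := @GeometricallyConnected) j X ‹_›
  have : Nonempty (Spec (CommRingCat.of Ω)) := ⟨IsLocalRing.closedPoint Ω⟩
  have : Subsingleton (Spec (CommRingCat.of Ω)) := inferInstanceAs (Subsingleton (PrimeSpectrum Ω))
  have : ConnectedSpace (Red.bc j X).left :=
    GeometricallyConnected.connectedSpace_of_subsingleton (f := (Red.bc j X).hom)
  let fΩ : Red.bc j X ⟶ Red.bc j G := (Over.pullback j).map f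
  let e : (T ⟶ G) →* Pts (Red.bc j G) := toBC j (Category.id_comp _) G
  have he' : Function.Bijective e := toBC_bijective j (Category.id_comp _) G
  have hY : ∀ g : T ⟶ G, (∃ x : T ⟶ X, x ≫ f = g) ↔ ∃ x : Pts (Red.bc j X), x ≫ fΩ = e g := by
    intro g
    constructor
    · rintro ⟨x, rfl⟩
      refine ⟨tautPt j (Category.id_comp _) ≫ (Over.pullback j).map x, ?_⟩
      show _ = tautPt j (Category.id_comp _) ≫ (Over.pullback j).map (x ≫ f)
      rw [Functor.map_comp, Category.assoc]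
    · rintro ⟨v, hv⟩
      refine ⟨Over.homMk (v.left ≫ GrpSch.bcProj j X) ?_, Over.OverMorphism.ext ?_⟩
      · show (v.left ≫ GrpSch.bcProj j X) ≫ X.hom = j
        rw [Category.assoc, (GrpSch.isPullback_bc j X).w, ← Category.assoc, Over.w v]
        exact Category.id_comp _
      · show (v.left ≫ GrpSch.bcProj j X) ≫ f.left = g.left
        rw [Category.assoc, ← GrpSch.bc_map_proj, ← Category.assoc, ← Over.comp_left, hv]
        exact toBC_proj j (Category.id_comp _) G g
  have himg : e '' signed f T = (Set.range fun x : Pts (Red.bc j X) => x ≫ fΩ) ∪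
      (Set.range fun x : Pts (Red.bc j X) => x ≫ fΩ)⁻¹ := by
    refine Set.ext fun v => ⟨?_, fun hv => ?_⟩
    · rintro ⟨g, hg | hg, rfl⟩
      · exact Or.inl ((hY g).1 hg)
      · exact Or.inr (by rw [Set.mem_inv, ← map_inv]; exact (hY g⁻¹).1 hg)
    · obtain ⟨g, rfl⟩ := he'.2 v
      refine ⟨g, ?_, rfl⟩
      rcases hv with hv | hv
      · exact Or.inl ((hY g).2 hv)
      · rw [Set.mem_inv, ← map_inv] at hv
        exact Or.inr ((hY g⁻¹).2 hv)
  obtain ⟨x₁, hx₁⟩ : ∃ x : Pts (Red.bc j X), x ≫ fΩ = 1 := by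
    obtain ⟨x, hx⟩ := he
    have := lfp_of_field G
    have := lfp_of_field X
    obtain ⟨y, hy⟩ := exists_pt_mem j X (D := f.left ⁻¹' Set.range (unitSec G).left)
      (isLocallyConstructible_preimage f.left isLocallyConstructible_range_unit) (z := x)
      (by
        show f.left x ∈ Set.range (unitSec G).left
        rwa [show unitSec G = η[G] by show (1 : 𝟙_ _ ⟶ G) = η[G]; rw [Hom.one_def, toUnit_unit, Category.id_comp]])
      (Subsingleton.elim (α := PrimeSpectrum k) _ _)
    obtain ⟨v, hv⟩ := (hY 1).1 ⟨y, (pt_mem_unit_iff (y ≫ f)).1 hy⟩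
    exact ⟨v, hv.trans (map_one e)⟩
  obtain ⟨M, hM⟩ := exists_bound_of_connected fΩ ⟨x₁, hx₁⟩
  refine ⟨M, fun g hg => ?_⟩
  have hcl : Subgroup.closure (e '' signed f T) ≤ Subgroup.closure (Set.range fun x : Pts (Red.bc j X) => x ≫ fΩ) := by
    rw [himg, Subgroup.closure_le]
    exact Set.union_subset Subgroup.subset_closure fun v hv => by
      simpa using Subgroup.inv_mem _ (Subgroup.subset_closure (Set.mem_inv.1 hv))
  have h := hM (hcl (by rw [← MonoidHom.map_closure]; exact ⟨g, hg, rfl⟩))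
  rw [← himg, ← Set.image_pow] at h
  exact (he'.1.mem_set_image).1 h

/-- A bound for the subgroup generated by the points fills the smallest closed subgroup. -/
theorem wordSet_eq_univ_of_bound [QuasiCompact G.hom] [GeometricallyReduced X.hom] {Ω : Type u} [Field Ω]
    [IsAlgClosed Ω] (j : Spec (CommRingCat.of Ω) ⟶ Spec (CommRingCat.of k)) (M : ℕ)
    (hM : (Subgroup.closure (signed f (Over.mk j)) : Set (Over.mk j ⟶ G)) ⊆ signed f (Over.mk j) ^ M)
    (hmin : ∀ (Γ' : Over (Spec (CommRingCat.of k))) (_ : GrpObj Γ') (i' : Γ' ⟶ G), IsMonHom i' →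
      IsClosedImmersion i'.left → (∃ f'' : X ⟶ Γ', f'' ≫ i' = f) → ∃ j : G ⟶ Γ', j ≫ i' = 𝟙 G) :
    wordSet f M = Set.univ := by
  have : IsSeparated G.hom := GrpSch.isSeparated_of_field G
  have := lfp_of_field G
  set Y := signed f (Over.mk j)
  have hone : (unitSec G) = η[G] := by show (1 : 𝟙_ _ ⟶ G) = η[G]; rw [Hom.one_def, toUnit_unit, Category.id_comp]
  have hsub : ∀ g : Over.mk j ⟶ G, g ∈ Subgroup.closure Y → pt g ∈ wordSet f M :=
    fun g hg => (pt_mem_wordSet_iff f j M g).2 (hM hg)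
  have hpow : ∀ g : Over.mk j ⟶ G, pt g ∈ wordSet f M → g ∈ Subgroup.closure Y := fun g hg => by
    have h := (pt_mem_wordSet_iff f j M g).1 hg
    obtain ⟨x, ε, rfl⟩ := (mem_signed_pow_iff f).1 h
    refine Subgroup.list_prod_mem _ fun y hy => ?_
    obtain ⟨i, rfl⟩ := List.mem_ofFn.1 hy
    split
    · exact Subgroup.subset_closure (Or.inl ⟨_, rfl⟩)
    · exact Subgroup.inv_mem _ (Subgroup.subset_closure (Or.inl ⟨_, rfl⟩))
  set U := wordSet f M
  have hU := isLocallyConstructible_wordSet f M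
  have hgood : ∀ (W : Over (Spec (CommRingCat.of k))) (h : W ⟶ G), LocallyOfFiniteType W.hom →
      QuasiCompact W.hom → (∀ y : Over.mk j ⟶ W, y ≫ h ∈ Subgroup.closure Y) → Set.range h.left ⊆ U := by
    rintro W h h1 h2 hW _ ⟨w, rfl⟩
    by_contra hwU
    obtain ⟨y, hy⟩ := exists_pt_mem j W (D := (h.left ⁻¹' U)ᶜ)
      (isLocallyConstructible_compl (isLocallyConstructible_preimage h.left hU)) (z := w) hwU
      (Subsingleton.elim (α := PrimeSpectrum k) _ _)
    exact hy (hsub _ (hW y))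
  have hUcl : IsClosed U := by
    have := isNoetherian_left G
    have : SpectralSpace G.left := ⟨⟩
    have h1U : η[G].left (IsLocalRing.closedPoint k) ∈ U := hgood _ η[G] (inferInstanceAs (LocallyOfFiniteType (𝟙 _)))
      (inferInstanceAs (QuasiCompact (𝟙 _))) (fun y => by
        rw [← hone, MonObj.comp_one]; exact Subgroup.one_mem _) ⟨_, rfl⟩
    obtain ⟨O, hO, ⟨z, hzO, hzc⟩, hOU⟩ :=
      GrpQ.MonoClosed.exists_open_inter_closure_subset hU.isConstructible ⟨_, h1U⟩
    obtain ⟨h1, h2⟩ := tensor_props (W := G) (W' := G) inferInstance inferInstance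
    refine ActSep.isClosed_of_mulStable_of_open hO ⟨z, hOU ⟨hzO, hzc⟩, hzO⟩ hOU ?_ ?_
      (fun K _ r => ActSep.universallyOpen_fieldPoint _ K r)
    · intro w hw1 hw2
      by_contra hw
      obtain ⟨y, ⟨hy1, hy2⟩, hy⟩ := exists_pt_mem j (G ⊗ G)
        (((isLocallyConstructible_preimage (fst G G).left hU).inter
          (isLocallyConstructible_preimage (snd G G).left hU)).inter
          (isLocallyConstructible_compl (isLocallyConstructible_preimage μ[G].left hU))) (z := w)
        ⟨⟨hw1, hw2⟩, hw⟩ (Subsingleton.elim (α := PrimeSpectrum k) _ _)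
      refine hy (show pt (y ≫ μ[G]) ∈ U from hsub _ ?_)
      rw [show y ≫ μ[G] = (y ≫ fst G G) * (y ≫ snd G G) by
        rw [Hom.mul_def, ← comp_lift, lift_fst_snd, Category.comp_id]]
      exact Subgroup.mul_mem _ (hpow _ hy1) (hpow _ hy2)
    · intro g hg
      by_contra hgi
      obtain ⟨y, hy1, hy2⟩ := exists_pt_mem j G
        (hU.inter (isLocallyConstructible_compl (isLocallyConstructible_preimage (GrpObj.inv (X := G)).left hU)))
        (z := g) ⟨hg, hgi⟩ (Subsingleton.elim (α := PrimeSpectrum k) _ _)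
      exact hy2 (show pt (y⁻¹) ∈ U from hsub _ (Subgroup.inv_mem _ (hpow _ hy1)))
  let Q : ∀ W : Over (Spec (CommRingCat.of k)), (W ⟶ G) → Prop := fun W h =>
    LocallyOfFiniteType W.hom ∧ QuasiCompact W.hom ∧ ∀ y : Over.mk j ⟶ W, y ≫ h ∈ Subgroup.closure Y
  obtain ⟨Γ₀, hG₀, i₀, hi₀, hc₀, hf₀, -, -, hdense⟩ := exists_smallest_of f Q
    ⟨inferInstance, inferInstance, fun y => Subgroup.subset_closure (Or.inl ⟨y, rfl⟩)⟩
    ⟨inferInstanceAs (LocallyOfFiniteType (𝟙 _)), inferInstanceAs (QuasiCompact (𝟙 _)), fun y => by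
      rw [← hone, MonObj.comp_one]; exact Subgroup.one_mem _⟩
    (fun W h ⟨h1, h2, h3⟩ => ⟨h1, h2, fun y => by rw [GrpObj.comp_inv]; exact Subgroup.inv_mem _ (h3 y)⟩)
    (fun W W' h h' _ _ ⟨h1, h2, h3⟩ ⟨h1', h2', h3'⟩ => by
      have := lfp_of_field W
      have := lfp_of_field W'
      obtain ⟨g1, g2⟩ := tensor_props (W := W) (W' := W') inferInstance h2'
      refine ⟨inferInstance, g2, fun y => ?_⟩
      rw [show (h ⊗ₘ h') ≫ μ[G] = (fst W W' ≫ h) * (snd W W' ≫ h') by
        rw [Hom.mul_def, ← lift_fst_comp_snd_comp], MonObj.comp_mul, ← Category.assoc, ← Category.assoc]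
      exact Subgroup.mul_mem _ (h3 _) (h3' _))
  obtain ⟨r, hr⟩ := hmin Γ₀ hG₀ i₀ hi₀ hc₀ hf₀
  refine Set.eq_univ_of_forall fun g => ?_
  show g ∈ U
  rw [← hUcl.closure_eq, mem_closure_iff]
  intro O hO hgO
  obtain ⟨W, c, ⟨-, hW1, hW2, hW3⟩, w, hw⟩ := hdense ⟨i₀.left ⁻¹' O, hO.preimage i₀.left.continuous⟩
    ⟨r.left g, by
      show i₀.left (r.left g) ∈ O
      rw [← Scheme.Hom.comp_apply, ← Over.comp_left, hr]
      exact hgO⟩
  exact ⟨i₀.left (c.left w), hw, hgood W (c ≫ i₀) hW1 hW2 hW3 ⟨w, rfl⟩⟩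

/-- The words of a large fixed length fill the smallest closed subgroup. -/
theorem exists_wordSet_eq_univ [QuasiCompact G.hom] [GeometricallyReduced X.hom] [GeometricallyConnected X.hom]
    (he : ∃ x : X.left, f.left x ∈ Set.range (η[G] : 𝟙_ (Over (Spec (CommRingCat.of k))) ⟶ G).left)
    (hmin : ∀ (Γ' : Over (Spec (CommRingCat.of k))) (_ : GrpObj Γ') (i' : Γ' ⟶ G), IsMonHom i' →
      IsClosedImmersion i'.left → (∃ f'' : X ⟶ Γ', f'' ≫ i' = f) → ∃ j : G ⟶ Γ', j ≫ i' = 𝟙 G) :
    ∃ N : ℕ, wordSet f N = Set.univ := by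
  obtain ⟨M, hM⟩ := exists_bound f he
  exact ⟨M, wordSet_eq_univ_of_bound f _ M hM hmin⟩

end Groth.Agent.Lib.GenSub
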