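import Groth.Agent.Lib.GenSub.Basic
import Groth.Agent.Lib.GrpSch.ConnFibre
import Groth.Agent.Lib.FinCond.Components

/-!
Connectedness of generated subgroups.
-/

set_option autoImplicit false

universe u

open CategoryTheory Limits MonoidalCategory CartesianMonoidalCategory MonObj AlgebraicGeometry

namespace Groth.Agent.Lib.GenSub

variable {k : Type u} [Field k] {G X : Over (Spec (CommRingCat.of k))} [GrpObj G]

theorem geometricallyConnected_prod {W W' : Over (Spec (CommRingCat.of k))} [GeometricallyConnected W.hom]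
    [GeometricallyConnected W'.hom] : GeometricallyConnected (W ⊗ W').hom := by
  have h1 : GeometricallyConnected (fst W W').left := GrpSch.fst_left_of (P := @GeometricallyConnected) W ‹_›
  have h2 : UniversallyOpen (fst W W').left := GrpSch.fst_left_of (P := @UniversallyOpen) W inferInstance
  rw [← Over.w (fst W W')]
  exact GeometricallyConnected.comp _ _

/-- The smallest closed subgroup through a geometrically connected scheme passing through the unit is
connected. -/
theorem connectedSpace_of_geometricallyConnected [GeometricallyReduced X.hom] [GeometricallyConnected X.hom]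
    (f : X ⟶ G) (he : ∃ x, f.left x ∈ Set.range η[G].left)
    (Γ : Over (Spec (CommRingCat.of k))) [GrpObj Γ] (i : Γ ⟶ G) [IsMonHom i] [IsClosedImmersion i.left]
    (hf : ∃ f' : X ⟶ Γ, f' ≫ i = f)
    (hmin : ∀ (Γ' : Over (Spec (CommRingCat.of k))) (_ : GrpObj Γ') (i' : Γ' ⟶ G), IsMonHom i' → IsClosedImmersion i'.left →
        (∃ f'' : X ⟶ Γ', f'' ≫ i' = f) → ∃ j : Γ ⟶ Γ', j ≫ i' = i) :
    ConnectedSpace Γ.left := by
  let Q : ∀ W : Over (Spec (CommRingCat.of k)), (W ⟶ G) → Prop := fun W h =>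
    GeometricallyConnected W.hom ∧ ∃ w, h.left w ∈ Set.range η[G].left
  obtain ⟨Γ₀, hG₀, i₀, hi₀, hc₀, hf₀, -, hmin₀, hdense⟩ := exists_smallest_of f Q ⟨inferInstance, he⟩
    ⟨by
      show GeometricallyConnected (𝟙 (Spec (CommRingCat.of k)))
      exact GrpSch.geometricallyConnected_of_rationalPoint _ (𝟙 _) (Category.id_comp _),
      IsLocalRing.closedPoint k, IsLocalRing.closedPoint k, rfl⟩
    (fun W h ⟨h1, w, hw⟩ => ⟨h1, w, by
      rw [show h⁻¹ = h ≫ GrpObj.inv from rfl, Over.comp_left, Scheme.Hom.comp_apply]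
      exact ActSep.range_invStable η[G] _ hw⟩)
    (fun W W' h h' _ _ ⟨h1, w, hw⟩ ⟨h2, w', hw'⟩ => ⟨geometricallyConnected_prod, by
      obtain ⟨v, hv, hv'⟩ := Scheme.exists_preimage_of_isPullback (GrpSch.isPullback_left W W') w w'
        (Subsingleton.elim (α := PrimeSpectrum k) _ _)
      refine ⟨v, ?_⟩
      rw [Over.comp_left, Scheme.Hom.comp_apply]
      refine ActSep.range_mulStable η[G] _ ?_ ?_
      · rw [← Scheme.Hom.comp_apply, ← Over.comp_left, tensorHom_fst, Over.comp_left, Scheme.Hom.comp_apply, hv]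
        exact hw
      · rw [← Scheme.Hom.comp_apply, ← Over.comp_left, tensorHom_snd, Over.comp_left, Scheme.Hom.comp_apply, hv']
        exact hw'⟩)
  let e := η[G].left (IsLocalRing.closedPoint k)
  have hη : ∀ p ∈ Set.range η[G].left, p = e := by
    rintro _ ⟨p, rfl⟩
    exact congrArg η[G].left (Subsingleton.elim (α := PrimeSpectrum k) _ _)
  let U : Set G.left := ⋃₀ {s | ∃ (W : Over (Spec (CommRingCat.of k))) (h : W ⟶ G), (Good f W h ∧ Q W h) ∧ s = Set.range h.left}
  have hU : _root_.IsPreconnected U := by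
    refine isPreconnected_sUnion e _ ?_ ?_
    · rintro _ ⟨W, h, ⟨-, -, w, hw⟩, rfl⟩
      exact ⟨w, hη _ hw⟩
    · rintro _ ⟨W, h, ⟨-, hW, -⟩, rfl⟩
      have := hW
      have : Nonempty (Spec (CommRingCat.of k)) := ⟨IsLocalRing.closedPoint k⟩
      have : Subsingleton (Spec (CommRingCat.of k)) := inferInstanceAs (Subsingleton (PrimeSpectrum k))
      have := GeometricallyConnected.connectedSpace_of_subsingleton (f := W.hom)
      exact isPreconnected_range h.left.continuous
  obtain ⟨j₀, hj₀⟩ := hmin Γ₀ hG₀ i₀ hi₀ hc₀ hf₀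
  have hsub : Set.range i.left ⊆ closure U := by
    rintro _ ⟨z, rfl⟩
    rw [← hj₀, Over.comp_left, Scheme.Hom.comp_apply]
    refine mem_closure_iff.2 fun O hO hzO => ?_
    obtain ⟨W, c, hc, w, hw⟩ := hdense ⟨i₀.left ⁻¹' O, hO.preimage i₀.left.continuous⟩ ⟨_, hzO⟩
    exact ⟨i₀.left (c.left w), hw, _, ⟨W, c ≫ i₀, hc, rfl⟩, w, by rw [Over.comp_left, Scheme.Hom.comp_apply]⟩
  have hUi : U ⊆ Set.range i.left := by
    rintro _ ⟨_, ⟨W, h, hh, rfl⟩, w, rfl⟩
    obtain ⟨l, rfl⟩ := hh.1.2.1 Γ _ i inferInstance inferInstance hf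
    exact ⟨l.left w, by rw [Over.comp_left]; rfl⟩
  have hEq : Set.range i.left = closure U :=
    Set.Subset.antisymm hsub (closure_minimal hUi i.left.isClosedEmbedding.isClosed_range)
  have hne : (Set.range i.left).Nonempty := ⟨_, η[Γ].left (IsLocalRing.closedPoint k), rfl⟩
  have hp : _root_.IsPreconnected (Set.range i.left) := hEq ▸ hU.closure
  have : Nonempty Γ.left := ⟨η[Γ].left (IsLocalRing.closedPoint k)⟩
  rw [← Set.image_univ] at hp
  exact { toPreconnectedSpace := ⟨i.left.isClosedEmbedding.isInducing.isPreconnected_image.1 hp⟩, toNonempty := this }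

/-- A connected component of the unit contains every preconnected set meeting it. -/
theorem connectedSpace_of_pieces (Γ : Over (Spec (CommRingCat.of k))) [GrpObj Γ] [LocallyOfFiniteType Γ.hom]
    {X : Over (Spec (CommRingCat.of k))} [IsReduced X.left] (f' : X ⟶ Γ)
    (hX : ∀ x : X.left, ∃ s : Set X.left, _root_.IsPreconnected s ∧ x ∈ s ∧ ∃ y ∈ s, f'.left y ∈ Set.range η[Γ].left)
    (hmin : ∀ (Γ' : Over (Spec (CommRingCat.of k))) (_ : GrpObj Γ') (i' : Γ' ⟶ Γ), IsMonHom i' → IsClosedImmersion i'.left →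
        (∃ f'' : X ⟶ Γ', f'' ≫ i' = f') → ∃ j : Γ ⟶ Γ', j ≫ i' = 𝟙 Γ) :
    ConnectedSpace Γ.left := by
  have : IsLocallyNoetherian Γ.left := LocallyOfFiniteType.isLocallyNoetherian Γ.hom
  have : LocallyConnectedSpace Γ.left :=
    FinCond.locallyConnectedSpace_of_locally_noetherian fun x => FinCond.locally_noetherian Γ.left x
  let e := η[Γ].left (IsLocalRing.closedPoint k)
  let C : Γ.left.Opens := ⟨connectedComponent e, isOpen_connectedComponent⟩
  let Γ₁ : Over (Spec (CommRingCat.of k)) := Over.mk (C.ι ≫ Γ.hom)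
  let i : Γ₁ ⟶ Γ := Over.homMk C.ι rfl
  have hic : IsClosedImmersion i.left := by
    refine IsClosedImmersion.of_isPreimmersion C.ι ?_
    rw [Scheme.Opens.range_ι]
    exact isClosed_connectedComponent
  have : IsOpenImmersion i.left := inferInstanceAs (IsOpenImmersion C.ι)
  have : Mono i := (Over.forget _).mono_of_mono_map (show Mono i.left from inferInstance)
  have : ConnectedSpace (C : Scheme.{u}) := Subtype.connectedSpace isConnected_connectedComponent
  have hlift : ∀ {T : Over (Spec (CommRingCat.of k))} (q : T ⟶ Γ), Set.range q.left ⊆ connectedComponent e →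
      ∃ l : T ⟶ Γ₁, l ≫ i = q := by
    intro T q hq
    have hr : Set.range q.left ⊆ Set.range C.ι := by rw [Scheme.Opens.range_ι]; exact hq
    exact ⟨Over.homMk (IsOpenImmersion.lift C.ι q.left hr) (by
      show IsOpenImmersion.lift C.ι q.left hr ≫ C.ι ≫ Γ.hom = _
      rw [IsOpenImmersion.lift_fac_assoc, Over.w]), Over.OverMorphism.ext (IsOpenImmersion.lift_fac _ _ _)⟩
  have hη : Set.range η[Γ].left ⊆ connectedComponent e := by
    rintro _ ⟨p, rfl⟩
    rw [show η[Γ].left p = e from congrArg η[Γ].left (Subsingleton.elim (α := PrimeSpectrum k) _ _)]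
    exact mem_connectedComponent
  obtain ⟨one, hone⟩ := hlift η[Γ] hη
  have : ConnectedSpace Γ₁.left := inferInstanceAs (ConnectedSpace (C : Scheme.{u}))
  have : GeometricallyConnected Γ₁.hom :=
    GrpSch.geometricallyConnected_of_rationalPoint _ one.left (Over.w one)
  have hgc : GeometricallyConnected (Γ₁ ⊗ Γ₁).hom := geometricallyConnected_prod
  have : Nonempty (Spec (CommRingCat.of k)) := ⟨IsLocalRing.closedPoint k⟩
  have : Subsingleton (Spec (CommRingCat.of k)) := inferInstanceAs (Subsingleton (PrimeSpectrum k))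
  have hconn2 := GeometricallyConnected.connectedSpace_of_subsingleton (f := (Γ₁ ⊗ Γ₁).hom)
  let p₀ : ↥(𝟙_ (Over (Spec (CommRingCat.of k)))).left := IsLocalRing.closedPoint k
  have honep : ∀ p, i.left (one.left p) = η[Γ].left p := fun p => by
    rw [← Scheme.Hom.comp_apply, ← Over.comp_left, hone]
  obtain ⟨mul, hmul⟩ := hlift ((i ⊗ₘ i) ≫ μ[Γ]) (by
    have h := isPreconnected_range ((i ⊗ₘ i) ≫ μ[Γ]).left.continuous
    refine h.subset_connectedComponent ?_
    obtain ⟨v, hv, hv'⟩ := Scheme.exists_preimage_of_isPullback (GrpSch.isPullback_left Γ₁ Γ₁)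
      (one.left p₀) (one.left p₀) rfl
    refine ⟨v, ?_⟩
    obtain ⟨p, hp⟩ : ((i ⊗ₘ i) ≫ μ[Γ]).left v ∈ Set.range η[Γ].left := by
      rw [Over.comp_left, Scheme.Hom.comp_apply]
      refine ActSep.range_mulStable η[Γ] _ ?_ ?_
      · rw [← Scheme.Hom.comp_apply, ← Over.comp_left, tensorHom_fst, Over.comp_left, Scheme.Hom.comp_apply, hv, honep]
        exact ⟨_, rfl⟩
      · rw [← Scheme.Hom.comp_apply, ← Over.comp_left, tensorHom_snd, Over.comp_left, Scheme.Hom.comp_apply, hv', honep]
        exact ⟨_, rfl⟩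
    rw [← hp]
    exact congrArg η[Γ].left (Subsingleton.elim (α := PrimeSpectrum k) _ _))
  obtain ⟨inv, hinv⟩ := hlift (i ≫ GrpObj.inv) (by
    refine (isPreconnected_range (i ≫ GrpObj.inv).left.continuous).subset_connectedComponent ?_
    refine ⟨one.left p₀, ?_⟩
    rw [Over.comp_left, Scheme.Hom.comp_apply, honep, ← Scheme.Hom.comp_apply, ← Over.comp_left]
    rw [show η[Γ] ≫ GrpObj.inv = η[Γ]⁻¹ from rfl, show η[Γ] = 1 by rw [Hom.one_def, toUnit_unit, Category.id_comp], inv_one]
    rfl)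
  obtain ⟨hG₁, hi⟩ := ActSep.exists_grpObj_of_mono i mul one inv hmul hone hinv
  obtain ⟨f₁, hf₁⟩ := hlift f' (by
    rintro _ ⟨x, rfl⟩
    obtain ⟨s, hs, hxs, y, hys, hy⟩ := hX x
    exact (hs.image _ f'.left.continuous.continuousOn).subset_connectedComponent
      ⟨y, hys, (congrArg _ rfl).trans (by
        obtain ⟨p, hp⟩ := hy
        rw [← hp]
        exact congrArg η[Γ].left (Subsingleton.elim (α := PrimeSpectrum k) _ _))⟩ ⟨x, hxs, rfl⟩)
  obtain ⟨j, hj⟩ := hmin Γ₁ hG₁ i hi hic ⟨f₁, hf₁⟩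
  have hall : connectedComponent e = Set.univ := Set.eq_univ_of_forall fun z => by
    have hz : i.left (j.left z) = z := by rw [← Scheme.Hom.comp_apply, ← Over.comp_left, hj]; rfl
    rw [← hz]
    exact (j.left z).2
  exact connectedSpace_iff_univ.2 (hall ▸ isConnected_connectedComponent)

end Groth.Agent.Lib.GenSub
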