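import Groth.Agent.Lib.ActSep.ImageSub
import Groth.Agent.Lib.ActSep.SubgroupClosed
import Groth.Agent.Lib.GrpQ.MonoClosed

/-!
The image of a morphism whose values form a subgroup.
-/

set_option autoImplicit false

universe u

open CategoryTheory Limits MonoidalCategory CartesianMonoidalCategory MonObj AlgebraicGeometry

namespace Groth.Agent.Lib.GenSub

variable {k : Type u} [Field k]

/-- The scheme theoretic image of a quasi-compact morphism with product, unit and inverse rules is a
closed subgroup. -/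
theorem exists_image_of_map {W G : Over (Spec (CommRingCat.of k))} [GrpObj G] (f : W ⟶ G) [QuasiCompact f.left]
    (m : W ⊗ W ⟶ W) (hm : m ≫ f = (f ⊗ₘ f) ≫ μ[G]) (e : 𝟙_ (Over (Spec (CommRingCat.of k))) ⟶ W)
    (he : e ≫ f = η[G]) (v : W ⟶ W) (hv : v ≫ f = f ≫ GrpObj.inv) :
    ∃ (H' : Over (Spec (CommRingCat.of k))) (_ : GrpObj H') (i : H' ⟶ G) (f' : W ⟶ H'),
      IsMonHom i ∧ f' ≫ i = f ∧ IsClosedImmersion i.left ∧
      IsSchemeTheoreticallyDominant f'.left ∧ QuasiCompact f'.left ∧ Set.range i.left = closure (Set.range f.left) := by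
  let H' : Over (Spec (CommRingCat.of k)) := Over.mk (f.left.imageι ≫ G.hom)
  let i : H' ⟶ G := Over.homMk f.left.imageι rfl
  let f' : W ⟶ H' := Over.homMk f.left.toImage (by
    show f.left.toImage ≫ f.left.imageι ≫ G.hom = W.hom
    rw [Scheme.Hom.toImage_imageι_assoc, Over.w])
  have hf : f' ≫ i = f := Over.OverMorphism.ext f.left.toImage_imageι
  have : IsClosedImmersion i.left := inferInstanceAs (IsClosedImmersion f.left.imageι)
  have : Mono i := (Over.forget _).mono_of_mono_map (show Mono ((Over.forget _).map i) from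
    inferInstanceAs (Mono f.left.imageι))
  have : QuasiCompact f'.left := inferInstanceAs (QuasiCompact f.left.toImage)
  have : IsSchemeTheoreticallyDominant f'.left := ActSep.isSchDominant_toImage f.left
  have hlift : ∀ {T T' : Over (Spec (CommRingCat.of k))} (p : T ⟶ T') (q : T' ⟶ G) (r : T ⟶ W),
      IsSchemeTheoreticallyDominant p.left → p ≫ q = r ≫ f → ∃ l : T' ⟶ H', l ≫ i = q := by
    intro T T' p q r hp hpq
    have hk : i.left.ker ≤ q.left.ker := by
      have h1 : (p ≫ q).left.ker = q.left.ker := by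
        rw [Over.comp_left, Scheme.Hom.ker_comp, hp.ker_eq_bot, Scheme.IdealSheafData.map_bot]
      rw [← h1, hpq, ← hf, ← Category.assoc, Over.comp_left]
      exact Scheme.Hom.le_ker_comp _ _
    refine ⟨Over.homMk (IsClosedImmersion.lift i.left q.left hk) ?_, Over.OverMorphism.ext (IsClosedImmersion.lift_fac _ _ _)⟩
    rw [show H'.hom = i.left ≫ G.hom from rfl, IsClosedImmersion.lift_fac_assoc, Over.w]
  obtain ⟨mul, hmul⟩ := hlift (f' ⊗ₘ f') ((i ⊗ₘ i) ≫ μ[G]) m (ActSep.isSchDominant_tensorHom f' f') (by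
    rw [tensorHom_comp_tensorHom_assoc, hf, hm])
  obtain ⟨inv, hinv⟩ := hlift f' (i ≫ GrpObj.inv) v inferInstance (by rw [← Category.assoc, hf, hv])
  obtain ⟨_, hi⟩ := ActSep.exists_grpObj_of_mono i mul (e ≫ f') inv hmul (by rw [Category.assoc, hf, he]) hinv
  refine ⟨H', ‹_›, i, f', hi, hf, inferInstance, inferInstance, inferInstance, ?_⟩
  show Set.range f.left.imageι = _
  rw [Scheme.IdealSheafData.range_subschemeι, Scheme.Hom.support_ker]

/-- The range of such a morphism between schemes of finite type is closed. -/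
theorem isClosed_range_of_map {W G : Over (Spec (CommRingCat.of k))} [GrpObj G] [LocallyOfFiniteType G.hom]
    (f : W ⟶ G) [QuasiCompact f.left] [LocallyOfFiniteType W.hom]
    (m : W ⊗ W ⟶ W) (hm : m ≫ f = (f ⊗ₘ f) ≫ μ[G]) (e : 𝟙_ (Over (Spec (CommRingCat.of k))) ⟶ W)
    (v : W ⟶ W) (hv : v ≫ f = f ≫ GrpObj.inv) :
    IsClosed (Set.range f.left) := by
  set R := Set.range f.left
  let x₀ := f.left (e.left (IsLocalRing.closedPoint k))
  obtain ⟨V, hV, hxV, -⟩ := exists_isAffineOpen_mem_and_subset (X := G.left) (x := x₀) (U := ⊤) trivial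
  have : IsAffine (V : Scheme.{u}) := hV
  have : IsLocallyNoetherian G.left := LocallyOfFiniteType.isLocallyNoetherian G.hom
  have : LocallyOfFiniteType (f.left ≫ G.hom) := by rw [Over.w]; infer_instance
  have : LocallyOfFiniteType f.left := locallyOfFiniteType_of_comp f.left G.hom
  have : QuasiCompact (f.left ∣_ V) :=
    MorphismProperty.of_isPullback (isPullback_morphismRestrict f.left V).flip inferInstance
  have h3 : Set.range (f.left ∣_ V) = Subtype.val ⁻¹' R := by
    rw [morphismRestrict_base]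
    exact Set.range_restrictPreimage _ _
  have h1 : Topology.IsConstructible (Set.range (f.left ∣_ V)) := by
    rw [← Set.image_univ]
    exact (f.left ∣_ V).isConstructible_image .univ
  have : SpectralSpace (V : Scheme.{u}) := ⟨⟩
  obtain ⟨U, hU, ⟨z, hzU, hzc⟩, hUR⟩ := GrpQ.MonoClosed.exists_open_inter_closure_subset h1
    (by rw [h3]; exact ⟨⟨x₀, hxV⟩, _, rfl⟩)
  rw [h3] at hUR hzc
  have hzR : z.1 ∈ R := hUR ⟨hzU, hzc⟩
  have hUR' : (Subtype.val '' U : Set G.left) ∩ closure R ⊆ R := by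
    rintro _ ⟨⟨y, hy, rfl⟩, hyc⟩
    exact hUR ⟨hy, V.2.isOpenMap_subtype_val.preimage_closure_subset_closure_preimage hyc⟩
  refine ActSep.isClosed_of_mulStable_of_open (V.2.isOpenMap_subtype_val U hU) ⟨z.1, hzR, z, hzU, rfl⟩ hUR'
    (fun p hp₁ hp₂ => ?_) ?_ (fun K _ r => ActSep.universallyOpen_fieldPoint k K r)
  · obtain ⟨a, ha⟩ := hp₁
    obtain ⟨w, hw, -⟩ := Scheme.exists_preimage_of_isPullback (GrpSch.isPullback_whiskerRight f G) p a ha.symm
    obtain ⟨b, hb⟩ := hp₂
    have hwb : (snd W G).left w = f.left b := by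
      rw [hb, ← hw, ← Scheme.Hom.comp_apply, ← Over.comp_left, whiskerRight_snd]
    obtain ⟨w', hw', -⟩ := Scheme.exists_preimage_of_isPullback (GrpSch.isPullback_whiskerLeft W f) w b hwb
    refine ⟨m.left w', ?_⟩
    rw [← Scheme.Hom.comp_apply, ← Over.comp_left, hm,
      show (f ⊗ₘ f) ≫ μ[G] = (W ◁ f) ≫ (f ▷ G) ≫ μ[G] by rw [tensorHom_def', Category.assoc],
      Over.comp_left, Over.comp_left, Scheme.Hom.comp_apply, Scheme.Hom.comp_apply, hw', hw]
  · rintro _ ⟨w, rfl⟩
    exact ⟨v.left w, by rw [← Scheme.Hom.comp_apply, ← Over.comp_left, hv]; rfl⟩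

end Groth.Agent.Lib.GenSub
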